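import Groth.Agent.Lib.FacDiv.Basic
import Groth.Agent.Lib.Ref1.Invertible
import Groth.Agent.Lib.Euler.Coh
import Groth.Agent.Lib.FTDesc.Basic

/-!
# Rank one reflexive modules with factorial local rings
-/

set_option autoImplicit false
set_option backward.isDefEq.respectTransparency false
set_option backward.isDefEq.respectTransparency.types false

universe u

open CategoryTheory CategoryTheory.Limits Opposite AlgebraicGeometry TopologicalSpace GrothLib.Ref1

namespace GrothLib.FacDiv

variable {X : Scheme.{u}} [IsIntegral X] [IsLocallyNoetherian X]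

omit [IsIntegral X] [IsLocallyNoetherian X] in
theorem isReflexiveAt_of_gen {F : X.Modules} {x : X} {t : F.presheaf.stalk x} (ht : Gen F x t) :
    RefHull.IsReflexiveAt F x :=
  have e := LinearEquiv.ofBijective (LinearMap.toSpanSingleton (X.presheaf.stalk x) _ t) ht
  have : Module.Free (X.presheaf.stalk x) (F.presheaf.stalk x) := Module.Free.of_equiv e
  have : Module.Finite (X.presheaf.stalk x) (F.presheaf.stalk x) := Module.Finite.equiv e
  (inferInstance : Module.IsReflexive (X.presheaf.stalk x) (F.presheaf.stalk x))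

/-- An invertible module is reflexive of rank one. -/
theorem isRef1_of_isInvertible {L : X.Modules} (hL : PicF.IsInvertible L) : RefHull.IsRef1 L := by
  have hrel := hasRel_of_isInvertible hL
  refine ⟨Euler.isCoh_of_isInvertible hL, (HomSh.isReflexive_iff hrel).2 fun x =>
    isReflexiveAt_of_gen (exists_gen_of_isInvertible hL x).choose_spec, ?_⟩
  exact genInvertible_of_gen hrel (exists_gen_of_isInvertible hL (genericPoint X)).choose_spec

variable (hX : Pi1.IsNormalScheme X)

include hX in
/-- Where the local ring is factorial a rank one reflexive module is free. -/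
theorem exists_gen_of_ufd {F : X.Modules} (hF : RefHull.IsRef1 F) {x : X}
    [UniqueFactorizationMonoid (X.presheaf.stalk x)] : ∃ t, Gen F x t := by
  classical
  have := hF.1.1
  have hrel := HomSh.hasRel_of_isCoh hF.1
  obtain ⟨v, hv⟩ := exists_ne_zero_of_isRef1 hF
  obtain ⟨e, he⟩ := exists_gen_of_genInvertible hF.2.2
  have hve := gen_of_ne_zero he hv
  obtain ⟨V, hV, hxV, -⟩ := exists_isAffineOpen_mem_and_subset (show x ∈ (⊤ : X.Opens) from trivial)
  have hfin := finite_secOrd_ne_zero hrel hve hV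
  let S := hfin.toFinset.filter fun y => y ⤳ x
  obtain ⟨c, hc0, hc⟩ := exists_ord_eq hX S (fun y => secOrd F v y)
    (fun y hy => by
      simp only [S, Finset.mem_filter, Set.Finite.mem_toFinset] at hy
      exact ⟨hy.2, hy.1.2.1⟩)
    fun z hzx hz hne => by
      simp only [S, Finset.mem_filter, Set.Finite.mem_toFinset]
      exact ⟨⟨hzx.mem_open V.2 hxV, hz, hne⟩, hzx⟩
  obtain ⟨d, hd⟩ := (isUnit_of_ne_zero hc0).exists_left_inv
  have hd0 : d ≠ 0 := left_ne_zero_of_mul_eq_one hd
  let v' := d • v
  have hv' : v' ≠ 0 := fun h => hv ((isUnit_of_ne_zero hd0).smul_eq_zero.1 h)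
  have hloc : ∀ y : X, y ⤳ x → ringKrullDim (X.presheaf.stalk y) = 1 →
      ∃ (ty : F.presheaf.stalk y) (a : X.presheaf.stalk y), Gen F y ty ∧ IsUnit a ∧ v' = spR (hη y) a • sp F (hη y) ty := by
    intro y hyx hy1
    have hy := coheight_of_dim_one hy1
    obtain ⟨ty, hty⟩ := exists_gen_of_isRef1 hX hF hy
    obtain ⟨φ, hφ, hvφ⟩ := exists_coeff hty hv'
    have hzero : ordg φ y = 0 := by
      have h1 : secOrd F v' y = ordg φ y := by rw [hvφ]; exact secOrd_gen hy hty hφ
      have h2 : secOrd F v' y = ordg d y + secOrd F v y := secOrd_smul hy hty hd0 hv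
      have h3 := congrArg (fun t => ordg t y) hd
      rw [ordg_mul hd0 hc0, ordg_one, hc y hyx hy] at h3
      omega
    obtain ⟨a, ha, rfl⟩ := exists_isUnit_of_forall_ord_zero hX y hφ fun z hzy hz => by
      rw [eq_of_specializes_coheight_one hy hzy (ne_genericPoint_of_coheight_one hz)]; exact hzero
    exact ⟨ty, a, hty, ha, hvφ⟩
  have hreflx : RefHull.IsReflexiveAt F x := (HomSh.isReflexive_iff hrel).1 hF.2.1 x
  obtain ⟨t, ht⟩ := exists_sp_eq_of_forall_dim_one hX F x hreflx v' fun y hyx hy => by
    obtain ⟨ty, a, -, -, hva⟩ := hloc y hyx hy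
    exact ⟨a • ty, by rw [sp_smul, ← hva]⟩
  have hinj := injective_sp_of_isRef1 hX hF x
  have hgen' := gen_of_ne_zero he hv'
  refine ⟨t, fun a b hab => ?_, fun u => ?_⟩
  · have := congrArg (sp F (hη x)) hab
    rw [sp_smul, sp_smul, ht] at this
    exact spR_injective x (hgen'.1 this)
  · obtain ⟨φ, hφ⟩ := hgen'.2 (sp F (hη x) u)
    dsimp only at hφ
    obtain ⟨r, hr⟩ := exists_spR_eq_of_forall_dim_one hX x φ fun y hyx hy => by
      obtain ⟨ty, a, hty, ha, hva⟩ := hloc y hyx hy
      obtain ⟨b, hb⟩ := hty.2 (sp F hyx u)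
      obtain ⟨a', ha'⟩ := ha.exists_left_inv
      refine ⟨a' * b, hgen'.1 ?_⟩
      show spR (hη y) (a' * b) • v' = φ • v'
      rw [hφ, ← sp_sp F (hη y) hyx, ← hb, sp_smul, hva, ← mul_smul, ← map_mul, mul_right_comm, ha', one_mul]
    exact ⟨r, hinj (by rw [sp_smul, ht, hr, hφ])⟩

omit [IsLocallyNoetherian X] in
/-- A free generator of a stalk of a rank one reflexive module spreads out. -/
theorem exists_isGen_nhd {F : X.Modules} (hF : RefHull.IsRef1 F) {x : X} {t : F.presheaf.stalk x} (ht : Gen F x t) :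
    ∃ (V : X.Opens) (e : Γ(F, V)), x ∈ V ∧ InvExt.IsGen F V e := by
  have := hF.1.1
  obtain ⟨U, hU, e, rfl⟩ := TopCat.Presheaf.exists_germ_eq F.presheaf t
  have hspan : FTDesc.SpanAt F (fun _ : PUnit.{u + 1} => e) x hU := by
    unfold FTDesc.SpanAt; rw [Set.range_const]; exact ht.span
  obtain ⟨T, hT, hxT, hTs⟩ := FTDesc.exists_nhd_spanAt hF.1.2 _ hU hspan
  refine ⟨T, InvExt.mres F hT e, hxT, isGen_of_gen fun z hz => ?_⟩
  rw [TopCat.Presheaf.germ_res_apply]
  have hη' : sp F (hη x) (F.presheaf.germ U x hU e) = sp F (hη z) (F.presheaf.germ U z (hT hz) e) := by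
    rw [sp_germ, sp_germ]
  refine ⟨fun a b hab => ?_, fun u => ?_⟩
  · have := congrArg (sp F (hη z)) hab
    rw [sp_smul, sp_smul, ← hη'] at this
    exact spR_injective z (ht.sp.1 this)
  · have := (hTs z hz).ge (Submodule.mem_top (x := u))
    rw [Set.range_const, Submodule.mem_span_singleton] at this
    exact this

include hX in
/-- A rank one reflexive module is invertible when all local rings are factorial. -/
theorem isInvertible_of_ufd {F : X.Modules} (hF : RefHull.IsRef1 F)
    (hufd : ∀ x : X, UniqueFactorizationMonoid (X.presheaf.stalk x)) : PicF.IsInvertible F := by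
  have := hF.1.1
  refine InvExt.isInvertible_of_gens fun x => ?_
  have := hufd x
  obtain ⟨t, ht⟩ := exists_gen_of_ufd hX hF (x := x)
  exact exists_isGen_nhd hF ht

end GrothLib.FacDiv
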