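import Groth.Agent.Lib.FacDiv.Cartier
import Groth.Agent.Lib.Ref1.Extend
import Groth.Agent.Lib.InvExt.Transfer
import Mathlib.RingTheory.Nakayama

/-!
# Principal height one primes
-/

set_option autoImplicit false
set_option backward.isDefEq.respectTransparency false
set_option backward.isDefEq.respectTransparency.types false

universe u

open CategoryTheory CategoryTheory.Limits Opposite AlgebraicGeometry TopologicalSpace GrothLib.Ref1

namespace GrothLib.FacDiv

/-- The local ring is factorial when its height one primes are principal. -/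
theorem ufd_of_height_one_principal {A : Type*} [CommRing A] [IsDomain A] [IsNoetherianRing A]
    (h : ∀ P : Ideal A, P.IsPrime → P.height = 1 → ∃ t, P = Ideal.span {t}) : UniqueFactorizationMonoid A := by
  rw [UniqueFactorizationMonoid.iff_exists_prime_mem_of_isPrime]
  intro Q hQ0 hQ
  obtain ⟨a, haQ, ha0⟩ := Submodule.exists_mem_ne_zero_of_ne_bot hQ0
  obtain ⟨P, hPmin, hPQ⟩ := Ideal.exists_minimalPrimes_le ((Ideal.span_singleton_le_iff_mem _).2 haQ)
  have := hPmin.1.1
  have haP : a ∈ P := hPmin.1.2 (Ideal.mem_span_singleton_self a)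
  have hh : P.height = 1 := by
    refine le_antisymm (Ideal.height_le_one_of_isPrincipal_of_mem_minimalPrimes (Ideal.span {a}) _ hPmin)
      (Order.one_le_iff_pos.2 (pos_iff_ne_zero.2 fun h0 => ?_))
    have hP0 : P ≠ ⊥ := fun hb => ha0 (by rw [hb, Ideal.mem_bot] at haP; exact haP)
    have hlt := Ideal.height_strict_mono_of_isPrime (bot_lt_iff_ne_bot.2 hP0)
    rw [h0] at hlt
    exact not_lt_bot hlt
  obtain ⟨t, rfl⟩ := h P inferInstance hh
  have ht0 : t ≠ 0 := by
    rintro rfl
    rw [Ideal.mem_span_singleton, zero_dvd_iff] at haP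
    exact ha0 haP
  exact ⟨t, hPQ (Ideal.mem_span_singleton_self t), (Ideal.span_singleton_prime ht0).1 inferInstance⟩

/-- A noetherian local ring of positive dimension has a prime of height one. -/
theorem exists_height_one {A : Type*} [CommRing A] [IsNoetherianRing A] [IsLocalRing A]
    (h : (IsLocalRing.maximalIdeal A).height ≠ 0) : ∃ P : Ideal A, P.IsPrime ∧ P.height = 1 := by
  by_contra hne
  push Not at hne
  have hfin := minimalPrimes.finite_of_isNoetherianRing A
  have hsub : (IsLocalRing.maximalIdeal A : Set A) ⊆ ⋃ Q ∈ hfin.toFinset, (Q : Set A) := by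
    intro a ha
    obtain ⟨P, hP, hPm⟩ := Ideal.exists_minimalPrimes_le ((Ideal.span_singleton_le_iff_mem _).2 ha)
    have := hP.1.1
    have h1 := Ideal.height_le_one_of_isPrincipal_of_mem_minimalPrimes (Ideal.span {a}) _ hP
    have h0 : P.height = 0 := by
      by_contra h0
      exact hne P inferInstance (le_antisymm h1 (Order.one_le_iff_pos.2 (pos_iff_ne_zero.2 h0)))
    exact Set.mem_biUnion (Set.Finite.mem_toFinset _ |>.2 (Ideal.height_eq_zero_iff.1 h0))
      (hP.1.2 (Ideal.mem_span_singleton_self a))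
  obtain ⟨Q, hQ, hle⟩ := (Ideal.subset_union_prime (f := fun Q : Ideal A => Q) ⊥ ⊥ fun Q hQ _ _ =>
    ((Set.Finite.mem_toFinset _).1 hQ).1.1).1 hsub
  have hQ' := (Set.Finite.mem_toFinset _).1 hQ
  have := hQ'.1.1
  have hQe : Q = IsLocalRing.maximalIdeal A := le_antisymm (IsLocalRing.le_maximalIdeal hQ'.1.1.ne_top) hle
  exact h (hQe ▸ Ideal.height_eq_zero_iff.2 hQ')

/-- A local ring with a principal prime of height one is a domain. -/
theorem isDomain_of_height_one_principal {A : Type*} [CommRing A] [IsNoetherianRing A] [IsLocalRing A]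
    {t : A} [hP : (Ideal.span {t}).IsPrime] (h : (Ideal.span {t}).height = 1) : IsDomain A := by
  obtain ⟨Q, hQ, hQP⟩ := Ideal.exists_minimalPrimes_le (bot_le : (⊥ : Ideal A) ≤ Ideal.span {t})
  have := hQ.1.1
  have htQ : t ∉ Q := fun htQ => by
    have he : Q = Ideal.span {t} := le_antisymm hQP ((Ideal.span_singleton_le_iff_mem _).2 htQ)
    rw [← he, Ideal.height_eq_zero_iff.2 hQ] at h
    exact zero_ne_one h
  have hsmul : Q ≤ Ideal.span {t} • Q := by
    intro q hq
    obtain ⟨r, rfl⟩ := Ideal.mem_span_singleton.1 (hQP hq)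
    exact Submodule.smul_mem_smul (Ideal.mem_span_singleton_self t)
      ((Ideal.IsPrime.mem_or_mem inferInstance hq).resolve_left htQ)
  have hbot : Q = ⊥ := Submodule.eq_bot_of_le_smul_of_le_jacobson_bot (Ideal.span {t}) Q (IsNoetherian.noetherian Q)
    hsmul (by rw [IsLocalRing.jacobson_eq_maximalIdeal _ bot_ne_top]; exact IsLocalRing.le_maximalIdeal hP.ne_top)
  subst hbot
  have : NoZeroDivisors A := ⟨fun {a b} hab => Ideal.IsPrime.mem_or_mem ‹(⊥ : Ideal A).IsPrime› (show a * b ∈ (⊥ : Ideal A) from hab)⟩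
  exact NoZeroDivisors.to_isDomain A

variable {X : Scheme.{u}}

/-- Generisations with the same unit locus coincide. -/
theorem eq_of_isUnit_iff {x y y' : X} (h : y ⤳ x) (h' : y' ⤳ x)
    (hu : ∀ a : X.presheaf.stalk x, IsUnit (spR h a) ↔ IsUnit (spR h' a)) : y = y' :=
  ((specializes_of_isUnit_imp h' h fun a ha => (hu a).2 ha).antisymm
    (specializes_of_isUnit_imp h h' fun a ha => (hu a).1 ha)).eq

/-- The height of the prime of a generisation. -/
theorem height_comap_eq {x y : X} (h : y ⤳ x) :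
    ringKrullDim (X.presheaf.stalk y) = ((IsLocalRing.maximalIdeal (X.presheaf.stalk y)).comap (spR h)).height := by
  obtain ⟨y', h', hdim, hu⟩ := exists_point_of_prime x ((IsLocalRing.maximalIdeal (X.presheaf.stalk y)).comap (spR h))
  obtain rfl : y' = y := eq_of_isUnit_iff h' h fun a => by
    rw [hu a, Ideal.mem_comap, IsLocalRing.mem_maximalIdeal, mem_nonunits_iff, not_not]
  exact hdim

/-- Primes of a local ring are primes of generisations. -/
theorem exists_comap_eq {x : X} (P : Ideal (X.presheaf.stalk x)) [P.IsPrime] :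
    ∃ (y : X) (h : y ⤳ x), ringKrullDim (X.presheaf.stalk y) = P.height ∧
      (IsLocalRing.maximalIdeal (X.presheaf.stalk y)).comap (spR h) = P := by
  obtain ⟨y, h, hdim, hu⟩ := exists_point_of_prime x P
  refine ⟨y, h, hdim, Ideal.ext fun a => ?_⟩
  rw [Ideal.mem_comap, IsLocalRing.mem_maximalIdeal, mem_nonunits_iff, hu a, not_not]

/-- The local ring at a generisation of a point with integral local ring is integral. -/
theorem isDomain_of_specializes {x y : X} (h : y ⤳ x) [IsDomain (X.presheaf.stalk x)]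
    [(Coh.structureModule X).IsQuasicoherent] : IsDomain (X.presheaf.stalk y) := by
  have lift : ∀ a : X.presheaf.stalk y, ∃ r b, IsUnit (spR h r) ∧ spR h r * a = spR h b := fun a => by
    obtain ⟨r, v, hr, hv⟩ := exists_sp_smul (Coh.structureModule X) h (HomSh.unitStalk y a)
    obtain ⟨b, rfl⟩ := (HomSh.unitStalk x).surjective v
    rw [sp_unitStalk, ← map_smul] at hv
    exact ⟨r, b, hr, (HomSh.unitStalk y).injective hv⟩
  have zero : ∀ b : X.presheaf.stalk x, spR h b = 0 → b = 0 := fun b hb => by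
    obtain ⟨c, hc, hcb⟩ := exists_smul_eq_zero_of_sp (Coh.structureModule X) h (HomSh.unitStalk x b) (by rw [sp_unitStalk, hb, map_zero])
    rw [← map_smul, LinearEquiv.map_eq_zero_iff] at hcb
    refine (mul_eq_zero.1 (show c * b = 0 from hcb)).resolve_left fun hc0 => ?_
    rw [hc0, map_zero] at hc
    exact not_isUnit_zero hc
  have : NoZeroDivisors (X.presheaf.stalk y) := ⟨fun {a b} hab => by
    obtain ⟨r, a', hr, ha⟩ := lift a
    obtain ⟨q, b', hq, hb⟩ := lift b
    have h0 : spR h (a' * b') = 0 := by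
      rw [map_mul, ← ha, ← hb]
      linear_combination (spR h r * spR h q) * hab
    rcases mul_eq_zero.1 (zero _ h0) with e | e
    · left; rw [e, map_zero] at ha; exact hr.mul_right_eq_zero.1 ha
    · right; rw [e, map_zero] at hb; exact hq.mul_right_eq_zero.1 hb⟩
  exact NoZeroDivisors.to_isDomain _

/-- A closed point without generisations is isolated. -/
theorem isOpen_singleton_of_isolated [IsLocallyNoetherian X] {x : X} (hgen : ∀ z : X, z ⤳ x → z = x)
    (hsp : ∀ z : X, x ⤳ z → z = x) : IsOpen ({x} : Set X) := by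
  obtain ⟨V, hV, hxV, -⟩ := exists_isAffineOpen_mem_and_subset (show x ∈ (⊤ : X.Opens) from trivial)
  have := IsLocallyNoetherian.component_noetherian (X := X) ⟨V, hV⟩
  have : NoetherianSpace (V : Set X) := noetherianSpace_of_isAffineOpen V hV
  let x' : (V : Set X) := ⟨x, hxV⟩
  have hcl : ∀ {T : Set (V : Set X)}, IsIrreducible T → IsClosed T → x' ∈ T → T = {x'} := by
    intro T hT hTc hxT
    have : QuasiSober (V : Set X) := inferInstanceAs (QuasiSober (V : Scheme.{u}))
    have hg : IsGenericPoint hT.genericPoint T := hT.isGenericPoint_genericPoint hTc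
    have hηx : hT.genericPoint = x' := Subtype.ext (hgen _ ((hg.specializes hxT).map continuous_subtype_val))
    refine Set.eq_singleton_iff_unique_mem.2 ⟨hxT, fun z hz => Subtype.ext (hsp _ ?_)⟩
    exact (hηx ▸ hg.specializes hz).map continuous_subtype_val
  have hC := irreducibleComponent_mem_irreducibleComponents x'
  obtain ⟨o, ho, hne, hle⟩ := NoetherianSpace.exists_isOpen_nonempty_subset_irreducibleComponent _ hC
  have he : o = {x'} := by
    rw [hcl hC.1 isClosed_irreducibleComponent mem_irreducibleComponent] at hle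
    exact (Set.subset_singleton_iff_eq.1 hle).resolve_left hne.ne_empty
  have := V.2.isOpenMap_subtype_val o ho
  rwa [he, Set.image_singleton] at this

variable [IsIntegral X]

theorem isNormalScheme_of_ufd (h : ∀ x : X, UniqueFactorizationMonoid (X.presheaf.stalk x)) :
    Pi1.IsNormalScheme X := fun x => by
  have := h x
  exact ⟨inferInstance, inferInstance⟩

variable [IsLocallyNoetherian X]

theorem ufd_of_principal {x : X}
    (h : ∀ y : X, ∀ hyx : y ⤳ x, Order.coheight y = 1 →
      ∃ t, (IsLocalRing.maximalIdeal (X.presheaf.stalk y)).comap (spR hyx) = Ideal.span {t}) :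
    UniqueFactorizationMonoid (X.presheaf.stalk x) :=
  ufd_of_height_one_principal fun P hP hh => by
    obtain ⟨y, hyx, hdim, rfl⟩ := exists_comap_eq P
    exact h y hyx (coheight_of_dim_one (hdim.trans (by rw [hh]; rfl)))

/-- Prime cycles which are principal give all finite systems of orders. -/
theorem exists_global_ord_eq
    (h : ∀ y : X, Order.coheight y = 1 → ∃ c : X.presheaf.stalk (genericPoint X), c ≠ 0 ∧ ordg c y = 1 ∧
      ∀ z : X, z ≠ y → Order.coheight z = 1 → ordg c z = 0)
    (S : Finset X) : ∀ n : X → ℤ, (∀ y ∈ S, Order.coheight y = 1) →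
      (∀ z : X, Order.coheight z = 1 → n z ≠ 0 → z ∈ S) →
      ∃ c : X.presheaf.stalk (genericPoint X), c ≠ 0 ∧ ∀ z : X, Order.coheight z = 1 → ordg c z = n z := by
  classical
  induction S using Finset.induction_on with
  | empty =>
    intro n _ hn
    refine ⟨1, one_ne_zero, fun z hz => ?_⟩
    rw [ordg_one]
    by_contra h'
    exact Finset.notMem_empty z (hn z hz (Ne.symm h'))
  | insert y S hyS ih =>
    intro n hS hn
    obtain ⟨c, hc0, hc⟩ := ih (Function.update n y 0) (fun z hz => hS z (Finset.mem_insert_of_mem hz))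
      fun z hz hne => by
        by_cases hzy : z = y
        · rw [hzy, Function.update_self] at hne; exact absurd rfl hne
        · rw [Function.update_of_ne hzy] at hne
          exact (Finset.mem_insert.1 (hn z hz hne)).resolve_left hzy
    obtain ⟨p, hp0, hpy, hpz⟩ := h y (hS y (Finset.mem_insert_self _ _))
    obtain ⟨q, hq⟩ := (isUnit_of_ne_zero hp0).exists_left_inv
    have hq0 : q ≠ 0 := left_ne_zero_of_mul_eq_one hq
    have hqz : ∀ z, ordg q z = -ordg p z := fun z => by
      have := congrArg (fun t => ordg t z) hq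
      rw [ordg_mul hq0 hp0, ordg_one] at this
      omega
    refine ⟨c * (p ^ (n y).toNat * q ^ (-n y).toNat),
      mul_ne_zero hc0 (mul_ne_zero (pow_ne_zero _ hp0) (pow_ne_zero _ hq0)), fun z hz => ?_⟩
    rw [ordg_mul hc0 (mul_ne_zero (pow_ne_zero _ hp0) (pow_ne_zero _ hq0)),
      ordg_mul (pow_ne_zero _ hp0) (pow_ne_zero _ hq0), ordg_pow hp0, ordg_pow hq0, hqz, hc z hz]
    by_cases hzy : z = y
    · subst hzy
      rw [Function.update_self, hpy]
      omega
    · rw [Function.update_of_ne hzy, hpz z hzy hz]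
      ring

/-- With principal prime cycles all invertible modules are trivial. -/
theorem nonempty_iso_of_principal [CompactSpace X] (hX : Pi1.IsNormalScheme X)
    (h : ∀ y : X, Order.coheight y = 1 → ∃ c : X.presheaf.stalk (genericPoint X), c ≠ 0 ∧ ordg c y = 1 ∧
      ∀ z : X, z ≠ y → Order.coheight z = 1 → ordg c z = 0)
    {L : X.Modules} (hL : PicF.IsInvertible L) : Nonempty (L ≅ Coh.structureModule X) := by
  classical
  have hR := isRef1_of_isInvertible hL
  have := hR.1.1
  have := (HomSh.isCoh_structureModule X).1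
  have hrel := HomSh.hasRel_of_isCoh hR.1
  obtain ⟨v, hv⟩ := exists_ne_zero_of_isRef1 hR
  obtain ⟨e, he⟩ := exists_gen_of_genInvertible hR.2.2
  choose V hV hxV _ using fun x : X => exists_isAffineOpen_mem_and_subset (show x ∈ (⊤ : X.Opens) from trivial)
  obtain ⟨T, hT⟩ := isCompact_univ.elim_finite_subcover (fun x => (V x : Set X)) (fun x => (V x).2)
    fun x _ => Set.mem_iUnion.2 ⟨x, hxV x⟩
  have hfin : {z | Order.coheight z = 1 ∧ secOrd L v z ≠ 0}.Finite :=
    (T.finite_toSet.biUnion fun x _ => finite_secOrd_ne_zero hrel (gen_of_ne_zero he hv) (hV x)).subset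
      fun z hz => by
        obtain ⟨x, hx, hzx⟩ := Set.mem_iUnion₂.1 (hT (Set.mem_univ z))
        exact Set.mem_biUnion (Finset.mem_coe.2 hx) ⟨hzx, hz⟩
  obtain ⟨c, hc0, hc⟩ := exists_global_ord_eq h hfin.toFinset (secOrd L v)
    (fun y hy => ((Set.Finite.mem_toFinset _).1 hy).1) fun z hz hne => (Set.Finite.mem_toFinset _).2 ⟨hz, hne⟩
  refine nonempty_iso_of_secOrd_eq hX hR isRef1_structureModule hv
    (w := c • HomSh.unitStalk (genericPoint X) 1)
    (fun h' => (gen_unitStalk (genericPoint X)).ne_zero ((isUnit_of_ne_zero hc0).smul_eq_zero.1 h'))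
    fun z hz => ?_
  rw [secOrd_smul hz (gen_unitStalk z) hc0 (gen_unitStalk (genericPoint X)).ne_zero, secOrd_unit hz, add_zero]
  exact (hc z hz).symm

/-- Trivial Picard groups of all open subschemes make all Weil divisors principal. -/
theorem exists_ord_of_forall_trivial (hX : Pi1.IsNormalScheme X)
    (h : ∀ (U : X.Opens) (L : (U : Scheme.{u}).Modules), PicF.IsInvertible L →
      Nonempty (L ≅ Coh.structureModule (U : Scheme.{u})))
    {F : X.Modules} (hF : RefHull.IsRef1 F) {v : F.presheaf.stalk (genericPoint X)} (hv : v ≠ 0) :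
    ∃ c : X.presheaf.stalk (genericPoint X), c ≠ 0 ∧ ∀ z : X, Order.coheight z = 1 → ordg c z = secOrd F v z := by
  have := hF.1.1
  let U : X.Opens := sSup {V | ∃ e : Γ(F, V), InvExt.IsGen F V e}
  have hU : ∀ (z : X) {t : F.presheaf.stalk z}, Gen F z t → z ∈ U := fun z t ht => by
    obtain ⟨V, e, hzV, he⟩ := exists_isGen_nhd hF ht
    exact Opens.mem_sSup.2 ⟨V, ⟨e, he⟩, hzV⟩
  have hL : PicF.IsInvertible (F.restrict U.ι) := InvExt.isInvertible_of_gens fun x => by
    obtain ⟨V, ⟨e, he⟩, hxV⟩ := Opens.mem_sSup.1 x.2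
    have hle : U.ι ''ᵁ (U.ι ⁻¹ᵁ V) ≤ V := U.ι.image_preimage_le V
    exact ⟨U.ι ⁻¹ᵁ V, _, hxV, InvExt.isGen_restrict (f := U.ι) (M := F) (he.restrict hle)⟩
  obtain ⟨φ⟩ := h U _ hL
  have hg : InvExt.IsGen (F.restrict U.ι) ⊤ (φ.inv.app ⊤ (1 : Γ((U : Scheme.{u}), ⊤))) :=
    (InvExt.isGen_one ⊤).map φ.inv fun W _ => ConcreteCategory.bijective_of_isIso (φ.inv.app W)
  obtain ⟨W, eW, heW, hUW⟩ : ∃ (W : X.Opens) (eW : Γ(F, W)), InvExt.IsGen F W eW ∧ ∀ z ∈ U, z ∈ W :=
    ⟨_, _, InvExt.isGen_image (f := U.ι) (M := F) hg, fun z hz => ⟨⟨z, hz⟩, trivial, rfl⟩⟩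
  obtain ⟨e, he⟩ := exists_gen_of_genInvertible hF.2.2
  have hηW := hUW _ (hU _ he)
  obtain ⟨c, hc, hvc⟩ := exists_coeff (gen_of_isGen heW hηW) hv
  refine ⟨c, hc, fun z hz => ?_⟩
  obtain ⟨t, ht⟩ := exists_gen_of_isRef1 hX hF hz
  have hzW := hUW z (hU z ht)
  have key : sp F (hη (genericPoint X)) (F.presheaf.germ W (genericPoint X) hηW eW) =
      sp F (hη z) (F.presheaf.germ W z hzW eW) := by rw [sp_germ, sp_germ]
  rw [hvc, key, secOrd_gen hz (gen_of_isGen heW hzW) hc]

omit [IsLocallyNoetherian X] in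
/-- Functions regular everywhere are global functions. -/
theorem exists_global_section (c : X.presheaf.stalk (genericPoint X)) (h : ∀ y : X, ∃ a, spR (hη y) a = c) :
    ∃ g : Γ(X, ⊤), ∀ y : X, spR (hη y) (X.presheaf.germ ⊤ y trivial g) = c := by
  have := (HomSh.isCoh_structureModule X).1
  have hinj : ∀ y ∈ (⊤ : X.Opens), Function.Injective (sp (Coh.structureModule X) (hη y)) := fun y _ a b hab => by
    obtain ⟨a', rfl⟩ := (HomSh.unitStalk y).surjective a
    obtain ⟨b', rfl⟩ := (HomSh.unitStalk y).surjective b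
    rw [sp_unitStalk, sp_unitStalk] at hab
    rw [spR_injective y ((HomSh.unitStalk (genericPoint X)).injective hab)]
  obtain ⟨t, ht⟩ := exists_section_of_forall_sp hinj (HomSh.unitStalk (genericPoint X) c) fun y _ => by
    obtain ⟨a, ha⟩ := h y
    exact ⟨HomSh.unitStalk y a, by rw [sp_unitStalk, ha]⟩
  refine ⟨(show Γ(X, ⊤) from t), fun y => (HomSh.unitStalk (genericPoint X)).injective ?_⟩
  rw [← ht y trivial, ← sp_unitStalk]
  refine congrArg _ ?_
  change X.presheaf.germ ⊤ y trivial (show Γ(X, ⊤) from t) •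
    (Coh.structureModule X).presheaf.germ ⊤ y trivial (1 : Γ(X, ⊤)) = _
  rw [← Mero.germ_smul]
  exact congrArg _ (mul_one (show Γ(X, ⊤) from t))

/-- A function vanishing at a point of codimension one has positive order. -/
theorem one_le_ordg (hX : Pi1.IsNormalScheme X) {x : X} (hx : Order.coheight x = 1) {a : X.presheaf.stalk x}
    (ha : a ≠ 0) (hu : ¬ IsUnit a) : 1 ≤ ordg (spR (hη x) a) x := by
  obtain ⟨ϖ, hϖ0, hϖ, hdec⟩ := exists_irreducible_ord hX hx
  obtain ⟨k, u, huu, rfl⟩ := hdec a ha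
  have hk : k ≠ 0 := by
    rintro rfl
    exact hu (by rwa [pow_zero, mul_one])
  rw [map_mul, map_pow, ordg_mul (isUnit_spR huu.ne_zero).ne_zero (pow_ne_zero _ (isUnit_spR hϖ0).ne_zero),
    show ordg (spR (hη x) u) x = 0 from ord_spR_of_isUnit huu, ordg_pow (isUnit_spR hϖ0).ne_zero, hϖ]
  omega

/-- A generator of the maximal ideal has order one. -/
theorem ordg_eq_one_of_span (hX : Pi1.IsNormalScheme X) {x : X} (hx : Order.coheight x = 1) {a : X.presheaf.stalk x}
    (ha : IsLocalRing.maximalIdeal (X.presheaf.stalk x) = Ideal.span {a}) :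
    a ≠ 0 ∧ ordg (spR (hη x) a) x = 1 := by
  obtain ⟨ϖ, hϖ0, hϖ, -⟩ := exists_irreducible_ord hX hx
  have hϖm : ϖ ∈ IsLocalRing.maximalIdeal (X.presheaf.stalk x) := fun hu => by
    rw [show ordg (spR (hη x) ϖ) x = 0 from ord_spR_of_isUnit hu] at hϖ
    exact zero_ne_one hϖ
  rw [ha] at hϖm
  obtain ⟨r, rfl⟩ := Ideal.mem_span_singleton.1 hϖm
  have ha0 : a ≠ 0 := left_ne_zero_of_mul hϖ0
  have hau : ¬ IsUnit a := fun hu => by
    have : a ∈ IsLocalRing.maximalIdeal (X.presheaf.stalk x) := by rw [ha]; exact Ideal.mem_span_singleton_self a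
    exact this hu
  have h1 := one_le_ordg hX hx ha0 hau
  have h2 := ordg_spR_nonneg hx r
  rw [map_mul, ordg_mul (isUnit_spR ha0).ne_zero (isUnit_spR (right_ne_zero_of_mul hϖ0)).ne_zero] at hϖ
  exact ⟨ha0, by omega⟩

end GrothLib.FacDiv
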