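import Groth.Agent.Lib.FacDiv.Invertible
import Groth.Agent.Lib.CDivLib.Basic

/-!
# Cartier divisors and orders on normal integral schemes
-/

set_option autoImplicit false
set_option backward.isDefEq.respectTransparency false
set_option backward.isDefEq.respectTransparency.types false

universe u

open CategoryTheory CategoryTheory.Limits Opposite AlgebraicGeometry TopologicalSpace GrothLib.Ref1

namespace GrothLib.FacDiv

variable {X : Scheme.{u}} [IsIntegral X] [IsLocallyNoetherian X]

omit [IsLocallyNoetherian X] in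
theorem algebraMap_eq_spR (x : X) (a : X.presheaf.stalk x) :
    algebraMap (X.presheaf.stalk x) X.functionField a = spR (hη x) a := rfl

omit [IsLocallyNoetherian X] in
theorem mul_image_of_germOf_eq {x : X} {f g : CDiv.KUnits X} (h : CDiv.germOf X x f = CDiv.germOf X x g) :
    ∃ u : X.presheaf.stalk x, IsUnit u ∧ (f : X.functionField) * spR (hη x) u = (g : X.functionField) := by
  obtain ⟨u, hu⟩ := QuotientGroup.eq.1 h
  refine ⟨u, u.isUnit, ?_⟩
  have := congrArg (fun t : CDiv.KUnits X => (t : X.functionField)) (eq_inv_mul_iff_mul_eq.1 hu)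
  simpa [algebraMap_eq_spR] using this

theorem ord_eq_of_germOf_eq {x : X} {f g : CDiv.KUnits X} (h : CDiv.germOf X x f = CDiv.germOf X x g) :
    Scheme.ord (f : X.functionField) x = Scheme.ord (g : X.functionField) x := by
  obtain ⟨u, hu, e⟩ := mul_image_of_germOf_eq h
  have : ordg ((f : X.functionField) * spR (hη x) u) x = ordg (g : X.functionField) x := congrArg (fun t => ordg t x) e
  rw [ordg_mul f.ne_zero (isUnit_spR hu.ne_zero).ne_zero,
    show ordg (spR (hη x) u) x = 0 from ord_spR_of_isUnit hu, add_zero] at this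
  exact this

/-- Germs agree where the orders do. -/
theorem germOf_eq_of_forall_ord (hX : Pi1.IsNormalScheme X) (x : X) {f g : CDiv.KUnits X}
    (h : ∀ y : X, y ⤳ x → Order.coheight y = 1 →
      Scheme.ord (f : X.functionField) y = Scheme.ord (g : X.functionField) y) :
    CDiv.germOf X x f = CDiv.germOf X x g := by
  obtain ⟨a, ha, e⟩ := exists_isUnit_of_forall_ord_zero hX x (c := ((f⁻¹ * g : CDiv.KUnits X) : X.functionField))
    (Units.ne_zero _) fun y hy hy' => by
      have h1 := ordg_mul (x := y) (c := (f : X.functionField)) (d := ((f⁻¹ * g : CDiv.KUnits X) : X.functionField))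
        f.ne_zero (Units.ne_zero _)
      rw [show (f : X.functionField) * ((f⁻¹ * g : CDiv.KUnits X) : X.functionField) = (g : X.functionField) by
        rw [← Units.val_mul, mul_inv_cancel_left]] at h1
      have : ordg (f : X.functionField) y = ordg (g : X.functionField) y := h y hy hy'
      omega
  refine QuotientGroup.eq.2 ⟨ha.unit, Units.ext ?_⟩
  exact e

/-- A rational function has finitely many zeros and poles of codimension one in an affine open. -/
theorem finite_ord_ne_zero {V : X.Opens} (hV : IsAffineOpen V) {c : X.presheaf.stalk (genericPoint X)} (hc : c ≠ 0) :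
    ((V : Set X) ∩ {z | Order.coheight z = 1 ∧ ordg c z ≠ 0}).Finite := by
  have := (HomSh.isCoh_structureModule X).1
  let v : (Coh.structureModule X).presheaf.stalk (genericPoint X) := c • HomSh.unitStalk (genericPoint X) 1
  have hv : v ≠ 0 := fun h => (gen_unitStalk (genericPoint X)).ne_zero ((isUnit_of_ne_zero hc).smul_eq_zero.1 h)
  refine (finite_secOrd_ne_zero (HomSh.hasRel_of_isCoh (HomSh.isCoh_structureModule X))
    (gen_of_ne_zero (gen_unitStalk (genericPoint X)) hv) hV).subset ?_
  rintro z ⟨hzV, hz, hne⟩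
  refine ⟨hzV, hz, ?_⟩
  rw [secOrd_smul hz (gen_unitStalk z) hc (gen_unitStalk (genericPoint X)).ne_zero, secOrd_unit hz, add_zero]
  exact hne

/-- Orders given locally by rational functions form a divisor. -/
theorem exists_divisor (hX : Pi1.IsNormalScheme X) (n : X → ℤ)
    (hn : ∀ V : X.Opens, IsAffineOpen V → ((V : Set X) ∩ {z | Order.coheight z = 1 ∧ n z ≠ 0}).Finite)
    (h : ∀ x : X, ∃ c : X.presheaf.stalk (genericPoint X), c ≠ 0 ∧
      ∀ z : X, z ⤳ x → Order.coheight z = 1 → ordg c z = n z) :
    ∃ D : CDiv.Divisor X, ∀ x : X, Order.coheight x = 1 → ∀ f : CDiv.KUnits X, D.1 x = CDiv.germOf X x f →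
      Scheme.ord (f : X.functionField) x = n x := by
  classical
  choose c hc0 hc using h
  let F : X → CDiv.KUnits X := fun x => Units.mk0 (c x : X.functionField) (hc0 x)
  refine ⟨⟨fun x => CDiv.germOf X x (F x), fun x => ?_⟩, fun x hx f hf => ?_⟩
  · obtain ⟨V, hV, hxV, -⟩ := exists_isAffineOpen_mem_and_subset (show x ∈ (⊤ : X.Opens) from trivial)
    let T := (V : Set X) ∩ {z | Order.coheight z = 1 ∧ ordg (c x) z ≠ n z}
    have hT : T.Finite := ((finite_ord_ne_zero hV (hc0 x)).union (hn V hV)).subset fun z ⟨hzV, hz, hne⟩ => by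
      by_cases h0 : n z = 0
      · exact Or.inl ⟨hzV, hz, h0 ▸ hne⟩
      · exact Or.inr ⟨hzV, hz, h0⟩
    let U : X.Opens := V ⊓ ⟨(⋃ z ∈ T, closure {z})ᶜ, (hT.isClosed_biUnion fun z _ => isClosed_closure).isOpen_compl⟩
    refine ⟨U, F x, ⟨hxV, ?_⟩, fun y hy => germOf_eq_of_forall_ord hX y fun z hzy hz => ?_⟩
    · simp only [Opens.coe_mk, Set.mem_compl_iff, Set.mem_iUnion, not_exists]
      intro z hz hmem
      exact hz.2.2 (hc x z (specializes_iff_mem_closure.2 hmem) hz.2.1)
    · show ordg (c y) z = ordg (c x) z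
      rw [hc y z hzy hz]
      by_contra hne
      have hzU : z ∈ U := hzy.mem_open U.2 hy
      refine hzU.2 (Set.mem_biUnion (x := z) ⟨hzU.1, hz, Ne.symm hne⟩ (subset_closure rfl))
  · rw [ord_eq_of_germOf_eq hf.symm]
    exact hc x x specializes_rfl hx

omit [IsLocallyNoetherian X] in
/-- A divisor is locally given by one function at all generisations. -/
theorem exists_germ_eq_divisor (D : CDiv.Divisor X) (x : X) :
    ∃ f : CDiv.KUnits X, ∀ y : X, y ⤳ x → D.1 y = CDiv.germOf X y f := by
  obtain ⟨U, f, hxU, hU⟩ := D.2 x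
  exact ⟨f, fun y hy => hU y (hy.mem_open U.2 hxU)⟩

end GrothLib.FacDiv
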