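import Groth.Agent.Lib.Ref1.Divisor
import Groth.Agent.Lib.Ref1.Unit
import Mathlib.RingTheory.UniqueFactorizationDomain.Kaplansky

/-!
# Rational functions with prescribed orders and factoriality
-/

set_option autoImplicit false
set_option backward.isDefEq.respectTransparency false
set_option backward.isDefEq.respectTransparency.types false

universe u

open CategoryTheory CategoryTheory.Limits Opposite AlgebraicGeometry TopologicalSpace GrothLib.Ref1

namespace GrothLib.FacDiv

variable {X : Scheme.{u}} [IsIntegral X] [IsLocallyNoetherian X]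

/-- A rational function as an element of the stalk at the generic point, and back. -/
noncomputable abbrev ordg (c : X.presheaf.stalk (genericPoint X)) (x : X) : ℤ :=
  Scheme.ord (c : X.functionField) x

theorem ordg_one (x : X) : ordg (X := X) 1 x = 0 := by
  have := ord_spR_of_isUnit (x := x) (u := 1) isUnit_one
  rwa [map_one] at this

theorem ordg_mul {x : X} {c d : X.presheaf.stalk (genericPoint X)} (hc : c ≠ 0) (hd : d ≠ 0) :
    ordg (c * d) x = ordg c x + ordg d x :=
  Scheme.ord_mul (f := (c : X.functionField)) (g := (d : X.functionField)) hc hd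

theorem ordg_pow {x : X} {c : X.presheaf.stalk (genericPoint X)} (hc : c ≠ 0) (k : ℕ) :
    ordg (c ^ k) x = k * ordg c x := by
  induction k with
  | zero => rw [pow_zero, ordg_one]; simp
  | succ k ih => rw [pow_succ, ordg_mul (pow_ne_zero k hc) hc, ih]; push_cast; ring

theorem ordg_spR_nonneg {x : X} (hx : Order.coheight x = 1) (a : X.presheaf.stalk x) :
    0 ≤ ordg (spR (hη x) a) x := by
  by_cases ha : a = 0
  · rw [ha, map_zero]
    show 0 ≤ Scheme.ord (0 : X.functionField) x
    rw [Scheme.ord_zero]; rfl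
  let A := X.presheaf.stalk x
  have : Ring.KrullDimLE 1 A := krullDimLE_of_coheight_le hx.le
  have hma := mem_nonZeroDivisors_of_ne_zero ha
  have : ordg (spR (hη x) a) x = ((Ring.ord A a).toNat : ℤ) := by
    refine (Scheme.ord_eq_iff hx (isUnit_spR ha).ne_zero).2 ?_
    change Ring.ordFrac A (algebraMap A X.functionField a) = _
    rw [Ring.ordFrac_eq_ord _ ha, Ring.ordMonoidWithZeroHom_eq_coe _ hma (ENat.natCast_toNat (Ring.ord_ne_top hma)).symm]
  omega

variable (hX : Pi1.IsNormalScheme X)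

include hX in
theorem exists_irreducible_ord {x : X} (hx : Order.coheight x = 1) :
    ∃ ϖ : X.presheaf.stalk x, ϖ ≠ 0 ∧ ordg (spR (hη x) ϖ) x = 1 ∧
      ∀ a : X.presheaf.stalk x, a ≠ 0 → ∃ (k : ℕ) (u : X.presheaf.stalk x), IsUnit u ∧ a = u * ϖ ^ k := by
  let A := X.presheaf.stalk x
  have : Ring.KrullDimLE 1 A := krullDimLE_of_coheight_le hx.le
  have : IsDomain A := (hX x).1
  have := isDiscreteValuationRing_of_dim_one hX (dim_one_of_coheight hx)
  obtain ⟨ϖ, hϖ⟩ := IsDiscreteValuationRing.exists_irreducible A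
  refine ⟨ϖ, hϖ.ne_zero, ?_, fun a ha => ?_⟩
  · refine (Scheme.ord_eq_iff hx (isUnit_spR hϖ.ne_zero).ne_zero).2 ?_
    change Ring.ordFrac A (algebraMap A X.functionField ϖ) = _
    rw [Ring.ordFrac_eq_ord _ hϖ.ne_zero, Ring.ordMonoidWithZeroHom_eq_coe _ (mem_nonZeroDivisors_of_ne_zero hϖ.ne_zero)
      (n := 1) (by rw [Ring.ord_of_irreducible hϖ, Nat.cast_one])]
    rfl
  · obtain ⟨k, hk⟩ := IsDiscreteValuationRing.associated_pow_irreducible ha hϖ
    obtain ⟨u, hu⟩ := hk.symm
    exact ⟨k, u, u.isUnit, by rw [mul_comm]; exact hu.symm⟩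

include hX in
/-- Non-negative order at a point of codimension one means regular there. -/
theorem exists_spR_eq_of_ord_nonneg {x : X} (hx : Order.coheight x = 1) {c : X.presheaf.stalk (genericPoint X)}
    (hc : c ≠ 0) (h : 0 ≤ ordg c x) : ∃ a, spR (hη x) a = c := by
  obtain ⟨ϖ, hϖ0, hϖ, hdec⟩ := exists_irreducible_ord hX hx
  obtain ⟨a, b, hb, hab⟩ := exists_spR_div x c
  have ha : a ≠ 0 := by
    rintro rfl
    rw [map_zero, mul_eq_zero] at hab
    exact hc (hab.resolve_left (isUnit_spR hb).ne_zero)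
  obtain ⟨p, u, hu, rfl⟩ := hdec a ha
  obtain ⟨q, w, hw, rfl⟩ := hdec b hb
  have hw' : ordg (spR (hη x) w) x = 0 := ord_spR_of_isUnit hw
  have hu' : ordg (spR (hη x) u) x = 0 := ord_spR_of_isUnit hu
  have hp := congrArg (fun t => ordg t x) hab
  rw [ordg_mul (isUnit_spR hb).ne_zero hc, map_mul, map_pow, map_mul, map_pow,
    ordg_mul (isUnit_spR hw.ne_zero).ne_zero (pow_ne_zero _ (isUnit_spR hϖ0).ne_zero),
    ordg_mul (isUnit_spR hu.ne_zero).ne_zero (pow_ne_zero _ (isUnit_spR hϖ0).ne_zero),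
    ordg_pow (isUnit_spR hϖ0).ne_zero, ordg_pow (isUnit_spR hϖ0).ne_zero, hw', hu', hϖ] at hp
  obtain ⟨d, rfl⟩ := Nat.exists_eq_add_of_le (show q ≤ p by omega)
  obtain ⟨w', hw''⟩ := hw.exists_left_inv
  refine ⟨w' * u * ϖ ^ d, (isUnit_spR hb).mul_left_cancel ?_⟩
  rw [hab, ← map_mul]
  refine congrArg _ ?_
  rw [pow_add]
  linear_combination (u * ϖ ^ q * ϖ ^ d) * hw''

include hX in
/-- Regular at every codimension one generisation means regular. -/
theorem exists_spR_eq_of_forall_ord_nonneg (z : X) {c : X.presheaf.stalk (genericPoint X)} (hc : c ≠ 0)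
    (h : ∀ y : X, y ⤳ z → Order.coheight y = 1 → 0 ≤ ordg c y) : ∃ a, spR (hη z) a = c :=
  exists_spR_eq_of_forall_dim_one hX z c fun y hy hd =>
    exists_spR_eq_of_ord_nonneg hX (coheight_of_dim_one hd) hc (h y hy (coheight_of_dim_one hd))

include hX in
/-- Order zero at every codimension one generisation means unit. -/
theorem exists_isUnit_of_forall_ord_zero (z : X) {c : X.presheaf.stalk (genericPoint X)} (hc : c ≠ 0)
    (h : ∀ y : X, y ⤳ z → Order.coheight y = 1 → ordg c y = 0) : ∃ a, IsUnit a ∧ spR (hη z) a = c := by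
  obtain ⟨d, hd⟩ := (isUnit_of_ne_zero hc).exists_left_inv
  have hd0 : d ≠ 0 := left_ne_zero_of_mul_eq_one hd
  obtain ⟨a, ha⟩ := exists_spR_eq_of_forall_ord_nonneg hX z hc fun y hy hy' => (h y hy hy').ge
  obtain ⟨b, hb⟩ := exists_spR_eq_of_forall_ord_nonneg hX z hd0 fun y hy hy' => by
    have := congrArg (fun t => ordg t y) hd
    rw [ordg_mul hd0 hc, ordg_one, h y hy hy'] at this
    omega
  refine ⟨a, IsUnit.of_mul_eq_one b (spR_injective z ?_), ha⟩
  rw [map_mul, map_one, ha, hb, mul_comm, hd]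

omit [IsIntegral X] [IsLocallyNoetherian X] in
/-- Generisations of a point are ordered by where functions become units. -/
theorem specializes_of_isUnit_imp {x y y' : X} (h : y ⤳ x) (h' : y' ⤳ x)
    (hu : ∀ a : X.presheaf.stalk x, IsUnit (spR h a) → IsUnit (spR h' a)) : y' ⤳ y := by
  obtain ⟨V, hV, hxV, -⟩ := exists_isAffineOpen_mem_and_subset (show x ∈ (⊤ : X.Opens) from trivial)
  have hyV : y ∈ V := h.mem_open V.2 hxV
  have hy'V : y' ∈ V := h'.mem_open V.2 hxV
  have hle : WeakAss.primeAt y' hy'V ≤ WeakAss.primeAt y hyV := by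
    intro r hr
    by_contra hr'
    rw [WeakAss.notMem_primeAt_iff, Scheme.mem_basicOpen _ r y hyV] at hr'
    have := hu (X.presheaf.germ V x hxV r) (by rwa [spR_germ])
    rw [spR_germ, ← Scheme.mem_basicOpen _ r y' hy'V] at this
    exact (WeakAss.notMem_primeAt_iff (hx := hy'V)).2 this hr
  have hle' : hV.primeIdealOf ⟨y', hy'V⟩ ≤ hV.primeIdealOf ⟨y, hyV⟩ := by
    rw [← QCoh.primeAt_eq_primeIdealOf hV hy'V, ← QCoh.primeAt_eq_primeIdealOf hV hyV]
    exact hle
  have := ((PrimeSpectrum.le_iff_specializes _ _).1 hle').map hV.fromSpec.continuous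
  rwa [hV.fromSpec_primeIdealOf, hV.fromSpec_primeIdealOf] at this

/-- In a factorial local ring the codimension one generisations have local equations. -/
theorem exists_prime_ord {x : X} [UniqueFactorizationMonoid (X.presheaf.stalk x)] (hX : Pi1.IsNormalScheme X)
    {y : X} (hyx : y ⤳ x) (hy : Order.coheight y = 1) :
    ∃ c : X.presheaf.stalk (genericPoint X), c ≠ 0 ∧ ordg c y = 1 ∧
      ∀ z : X, z ⤳ x → Order.coheight z = 1 → z ≠ y → ordg c z = 0 := by
  classical
  let A := X.presheaf.stalk x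
  have : IsDomain A := (hX x).1
  let P : Ideal A := (IsLocalRing.maximalIdeal (X.presheaf.stalk y)).comap (spR hyx)
  have hP0 : P ≠ ⊥ := by
    obtain ⟨ϖ, hϖ0, hϖ, -⟩ := exists_irreducible_ord hX hy
    obtain ⟨a, b, hb, hab⟩ := exists_spR_div x (spR (hη y) ϖ)
    intro hbot
    have hub : IsUnit (spR hyx b) := by
      by_contra hnu
      have : b ∈ P := hnu
      rw [hbot] at this
      exact hb this
    have hua : IsUnit (spR hyx a) := by
      by_contra hnu
      have ha : a ∈ P := hnu
      rw [hbot] at ha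
      rw [show a = 0 from ha, map_zero, mul_eq_zero] at hab
      exact hab.elim (isUnit_spR hb).ne_zero (isUnit_spR hϖ0).ne_zero
    have := congrArg (fun t => ordg t y) hab
    rw [ordg_mul (isUnit_spR hb).ne_zero (isUnit_spR hϖ0).ne_zero, hϖ, ← spR_spR (hη y) hyx, ← spR_spR (hη y) hyx,
      show ordg (spR (hη y) (spR hyx b)) y = 0 from ord_spR_of_isUnit hub,
      show ordg (spR (hη y) (spR hyx a)) y = 0 from ord_spR_of_isUnit hua] at this
    omega
  obtain ⟨p, hpP, hp⟩ := Ideal.IsPrime.exists_mem_prime_of_ne_bot (inferInstance : P.IsPrime) hP0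
  have : (Ideal.span {p}).IsPrime := (Ideal.span_singleton_prime hp.ne_zero).2 hp
  obtain ⟨y', hy'x, hdim, hunit⟩ := exists_point_of_prime x (Ideal.span {p})
  have hy' : Order.coheight y' = 1 := by
    refine coheight_of_dim_one (hdim.trans ?_)
    have h1 : (Ideal.span {p}).height ≤ 1 := Ideal.height_le_one_of_isPrincipal_of_mem_minimalPrimes (Ideal.span {p}) _
      (by rw [Ideal.minimalPrimes_eq_subsingleton_self]; rfl)
    have h0 : (Ideal.span {p}).height ≠ 0 := fun h0 => by
      have hlt := Ideal.height_strict_mono_of_isPrime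
        (bot_lt_iff_ne_bot.2 (fun hb : Ideal.span {p} = ⊥ => hp.ne_zero (Ideal.span_singleton_eq_bot.1 hb)))
      rw [h0] at hlt
      exact not_lt_bot hlt
    rw [le_antisymm h1 (Order.one_le_iff_pos.2 (pos_iff_ne_zero.2 h0))]
    rfl
  have hspec : y' ⤳ y := specializes_of_isUnit_imp hyx hy'x fun a ha => by
    rw [hunit]
    intro hmem
    obtain ⟨r, rfl⟩ := Ideal.mem_span_singleton.1 hmem
    exact (P.mul_mem_right r hpP) ha
  have heq : y' = y := eq_of_specializes_coheight_one hy hspec (ne_genericPoint_of_coheight_one hy')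
  subst heq
  have hP : ∀ a : A, ¬ IsUnit (spR hyx a) → p ∣ a := fun a ha =>
    Ideal.mem_span_singleton.1 (by by_contra hn; exact ha ((hunit a).2 hn))
  refine ⟨spR (hη x) p, (isUnit_spR hp.ne_zero).ne_zero, ?_, fun z hzx hz hne => ?_⟩
  · obtain ⟨ϖ, hϖ0, hϖ, -⟩ := exists_irreducible_ord hX hy
    obtain ⟨a, b, hb, hab⟩ := exists_spR_div x (spR (hη y') ϖ)
    have ha : a ≠ 0 := fun h0 => by
      rw [h0, map_zero, mul_eq_zero] at hab
      exact hab.elim (isUnit_spR hb).ne_zero (isUnit_spR hϖ0).ne_zero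
    have hfac : ∀ t : A, t ≠ 0 → ∃ k : ℕ, ordg (spR (hη x) t) y' = k * ordg (spR (hη x) p) y' := by
      intro t ht
      obtain ⟨k, t', hnd, rfl⟩ := WfDvdMonoid.max_power_factor ht hp.irreducible
      have ht' : t' ≠ 0 := right_ne_zero_of_mul ht
      have hu : IsUnit (spR hyx t') := by by_contra hn; exact hnd (hP t' hn)
      refine ⟨k, ?_⟩
      rw [map_mul, ordg_mul (isUnit_spR (left_ne_zero_of_mul ht)).ne_zero (isUnit_spR ht').ne_zero, map_pow,
        ordg_pow (isUnit_spR hp.ne_zero).ne_zero, ← spR_spR (hη y') hyx t',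
        show ordg (spR (hη y') (spR hyx t')) y' = 0 from ord_spR_of_isUnit hu, add_zero]
    obtain ⟨i, hi⟩ := hfac a ha
    obtain ⟨j, hj⟩ := hfac b hb
    have := congrArg (fun t => ordg t y') hab
    rw [ordg_mul (isUnit_spR hb).ne_zero (isUnit_spR hϖ0).ne_zero, hϖ, hi, hj] at this
    have hnn : 0 ≤ ordg (spR (hη x) p) y' := by
      rw [← spR_spR (hη y') hyx p]; exact ordg_spR_nonneg hy _
    have h1 : ((i : ℤ) - j) * ordg (spR (hη x) p) y' = 1 := by linarith
    rcases Int.mul_eq_one_iff_eq_one_or_neg_one.1 h1 with ⟨-, h2⟩ | ⟨-, h2⟩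
    · exact h2
    · omega
  · have hu : IsUnit (spR hzx p) := by
      by_contra hn
      refine hne (eq_of_specializes_coheight_one hz (specializes_of_isUnit_imp hzx hyx fun a ha => ?_)
        (ne_genericPoint_of_coheight_one hy)).symm
      rw [hunit]
      intro hmem
      obtain ⟨r, rfl⟩ := Ideal.mem_span_singleton.1 hmem
      rw [map_mul, IsUnit.mul_iff] at ha
      exact hn ha.1
    rw [← spR_spR (hη z) hzx p]
    exact ord_spR_of_isUnit hu

include hX in
/-- In a factorial local ring any finitely supported system of orders is realised. -/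
theorem exists_ord_eq {x : X} [UniqueFactorizationMonoid (X.presheaf.stalk x)] (S : Finset X) :
    ∀ (n : X → ℤ), (∀ y ∈ S, y ⤳ x ∧ Order.coheight y = 1) →
      (∀ z : X, z ⤳ x → Order.coheight z = 1 → n z ≠ 0 → z ∈ S) →
      ∃ c : X.presheaf.stalk (genericPoint X), c ≠ 0 ∧
        ∀ z : X, z ⤳ x → Order.coheight z = 1 → ordg c z = n z := by
  classical
  induction S using Finset.induction_on with
  | empty =>
    intro n _ hn
    refine ⟨1, one_ne_zero, fun z hzx hz => ?_⟩
    rw [ordg_one]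
    by_contra h
    exact Finset.notMem_empty z (hn z hzx hz (Ne.symm h))
  | insert y S hyS ih =>
    intro n hS hn
    obtain ⟨c, hc0, hc⟩ := ih (Function.update n y 0) (fun z hz => hS z (Finset.mem_insert_of_mem hz))
      fun z hzx hz hne => by
        by_cases hzy : z = y
        · rw [hzy, Function.update_self] at hne; exact absurd rfl hne
        · rw [Function.update_of_ne hzy] at hne
          exact (Finset.mem_insert.1 (hn z hzx hz hne)).resolve_left hzy
    obtain ⟨hyx, hy⟩ := hS y (Finset.mem_insert_self _ _)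
    obtain ⟨p, hp0, hpy, hpz⟩ := exists_prime_ord hX hyx hy
    obtain ⟨q, hq⟩ := (isUnit_of_ne_zero hp0).exists_left_inv
    have hq0 : q ≠ 0 := left_ne_zero_of_mul_eq_one hq
    have hqz : ∀ z, ordg q z = -ordg p z := fun z => by
      have := congrArg (fun t => ordg t z) hq
      rw [ordg_mul hq0 hp0, ordg_one] at this
      omega
    refine ⟨c * (p ^ (n y).toNat * q ^ (-n y).toNat),
      mul_ne_zero hc0 (mul_ne_zero (pow_ne_zero _ hp0) (pow_ne_zero _ hq0)), fun z hzx hz => ?_⟩
    rw [ordg_mul hc0 (mul_ne_zero (pow_ne_zero _ hp0) (pow_ne_zero _ hq0)),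
      ordg_mul (pow_ne_zero _ hp0) (pow_ne_zero _ hq0), ordg_pow hp0, ordg_pow hq0, hqz, hc z hzx hz]
    by_cases hzy : z = y
    · subst hzy
      rw [Function.update_self, hpy]
      omega
    · rw [Function.update_of_ne hzy, hpz z hzx hz hzy]
      ring

include hX in
/-- Local equations of all codimension one generisations make the local ring factorial. -/
theorem uniqueFactorizationMonoid_of_ord {x : X}
    (h : ∀ y : X, y ⤳ x → Order.coheight y = 1 → ∃ c : X.presheaf.stalk (genericPoint X), c ≠ 0 ∧ ordg c y = 1 ∧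
      ∀ z : X, z ⤳ x → Order.coheight z = 1 → z ≠ y → ordg c z = 0) :
    UniqueFactorizationMonoid (X.presheaf.stalk x) := by
  let A := X.presheaf.stalk x
  have : IsDomain A := (hX x).1
  rw [UniqueFactorizationMonoid.iff_exists_prime_mem_of_isPrime]
  intro Q hQ0 hQ
  obtain ⟨a, haQ, ha0⟩ := Submodule.exists_mem_ne_zero_of_ne_bot hQ0
  obtain ⟨P, hPmin, hPQ⟩ := Ideal.exists_minimalPrimes_le ((Ideal.span_singleton_le_iff_mem _).2 haQ)
  have := hPmin.1.1
  have hP0 : P ≠ ⊥ := fun hbot => ha0 (by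
    have : a ∈ P := hPmin.1.2 (Ideal.mem_span_singleton_self a)
    rwa [hbot, Ideal.mem_bot] at this)
  have hPh : P.height = 1 := by
    refine le_antisymm (Ideal.height_le_one_of_isPrincipal_of_mem_minimalPrimes (Ideal.span {a}) _ hPmin)
      (Order.one_le_iff_pos.2 (pos_iff_ne_zero.2 ?_))
    intro h0
    have hlt := Ideal.height_strict_mono_of_isPrime (bot_lt_iff_ne_bot.2 hP0)
    rw [h0] at hlt
    exact not_lt_bot hlt
  obtain ⟨y, hyx, hdim, hunit⟩ := exists_point_of_prime x P
  have hy : Order.coheight y = 1 := coheight_of_dim_one (hdim.trans (by rw [hPh]; rfl))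
  obtain ⟨c, hc0, hcy, hcz⟩ := h y hyx hy
  obtain ⟨p, hpc⟩ := exists_spR_eq_of_forall_ord_nonneg hX x hc0 fun z hzx hz => by
    by_cases hzy : z = y
    · rw [hzy, hcy]; omega
    · rw [hcz z hzx hz hzy]
  have hp0 : p ≠ 0 := fun h0 => hc0 (by rw [← hpc, h0, map_zero])
  have hpP : p ∈ P := by
    by_contra hn
    have := ord_spR_of_isUnit ((hunit p).2 hn)
    rw [show spR (hη y) (spR hyx p) = c from (spR_spR (hη y) hyx p).trans hpc] at this
    have : ordg c y = 0 := this
    omega
  have hdvd : ∀ b ∈ P, p ∣ b := by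
    intro b hb
    by_cases hb0 : b = 0
    · rw [hb0]; exact dvd_zero p
    obtain ⟨q, hq⟩ := (isUnit_of_ne_zero hc0).exists_left_inv
    have hq0 : q ≠ 0 := left_ne_zero_of_mul_eq_one hq
    obtain ⟨r, hr⟩ := exists_spR_eq_of_forall_ord_nonneg hX x
      (mul_ne_zero hq0 (isUnit_spR hb0).ne_zero) fun z hzx hz => by
      have hqz := congrArg (fun t => ordg t z) hq
      rw [ordg_mul hq0 hc0, ordg_one] at hqz
      rw [ordg_mul hq0 (isUnit_spR hb0).ne_zero, ← spR_spR (hη z) hzx b]
      have hnn := ordg_spR_nonneg hz (spR hzx b)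
      by_cases hzy : z = y
      · subst hzy
        obtain ⟨ϖ, hϖ0, hϖ, hdec⟩ := exists_irreducible_ord hX hz
        have hb0' : spR hzx b ≠ 0 := fun h0 => (isUnit_spR hb0).ne_zero (by rw [← spR_spR (hη z) hzx b, h0, map_zero])
        obtain ⟨k, u, hu, hbk⟩ := hdec _ hb0'
        have hk : k ≠ 0 := by
          rintro rfl
          exact (hunit b).1 (by rw [hbk, pow_zero, mul_one]; exact hu) hb
        rw [hbk, map_mul, map_pow, ordg_mul (isUnit_spR hu.ne_zero).ne_zero (pow_ne_zero _ (isUnit_spR hϖ0).ne_zero),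
          show ordg (spR (hη z) u) z = 0 from ord_spR_of_isUnit hu, ordg_pow (isUnit_spR hϖ0).ne_zero, hϖ]
        omega
      · rw [hcz z hzx hz hzy] at hqz
        omega
    refine ⟨r, spR_injective x ?_⟩
    rw [map_mul, hpc, hr, ← mul_assoc, mul_comm c q, hq, one_mul]
  refine ⟨p, hPQ hpP, ?_⟩
  rw [← Ideal.span_singleton_prime hp0]
  rw [show Ideal.span {p} = P from le_antisymm ((Ideal.span_singleton_le_iff_mem _).2 hpP)
    fun b hb => Ideal.mem_span_singleton.2 (hdvd b hb)]
  infer_instance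

end GrothLib.FacDiv
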